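import Groth.Agent.CI.Criterion
import Mathlib

/-!
Relations among generators of the maximal ideal under a flat extension with the same closed fibre.
-/

set_option autoImplicit false
universe u

namespace Groth.GeomDepth

open IsLocalRing TensorProduct Groth.CI

theorem length_baseChange_of_flat {O R : Type u} [CommRing O] [IsLocalRing O] [CommRing R] [IsLocalRing R]
    [Algebra O R] [Module.Flat O R] (hmax : (maximalIdeal O).map (algebraMap O R) = maximalIdeal R)
    {M : Type u} [AddCommGroup M] [Module O M] (h : IsFiniteLength O M) :
    Module.length R (R ⊗[O] M) = Module.length O M := by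
  induction h with
  | @of_subsingleton M _ _ _ => rw [Module.length_eq_zero, Module.length_eq_zero]
  | @of_simple_quotient M _ _ N _ hN ih =>
    rw [Module.length_eq_add_of_exact N.subtype N.mkQ N.injective_subtype N.mkQ_surjective
      (LinearMap.exact_subtype_mkQ N), Module.length_eq_one O (M ⧸ N), ← ih]
    obtain ⟨m, hm, ⟨e⟩⟩ := (isSimpleModule_iff_quot_maximal (R := O) (M := M ⧸ N)).1 inferInstance
    obtain rfl := eq_maximalIdeal hm
    have hs : Module.length R (R ⊗[O] (M ⧸ N)) = 1 := by
      rw [(TensorProduct.AlgebraTensorModule.congr (LinearEquiv.refl R R) e).length_eq,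
        ← (Algebra.TensorProduct.quotIdealMapEquivTensorQuot R (maximalIdeal O)).toLinearEquiv.length_eq, hmax]
      haveI : IsSimpleModule R (R ⧸ maximalIdeal R) :=
        isSimpleModule_iff_quot_maximal.2 ⟨maximalIdeal R, inferInstance, ⟨LinearEquiv.refl R _⟩⟩
      exact Module.length_eq_one R _
    rw [Module.length_eq_add_of_exact (N.subtype.baseChange R) (N.mkQ.baseChange R)
      (Module.Flat.lTensor_preserves_injective_linearMap _ N.injective_subtype)
      (LinearMap.lTensor_surjective R N.mkQ_surjective) (lTensor_exact R (LinearMap.exact_subtype_mkQ N) N.mkQ_surjective), hs]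

variable {A A' : Type u} [CommRing A] [CommRing A'] [Algebra A A']

theorem exact_lTensor_subtype_mkQ {M : Type u} [AddCommGroup M] [Module A M] (p : Submodule A M) :
    Function.Exact (p.subtype.lTensor A') (p.mkQ.lTensor A') :=
  lTensor_exact A' (LinearMap.exact_subtype_mkQ p) p.mkQ_surjective

/-- Relations modulo trivial relations commute with flat base change. -/
theorem nonempty_H1_baseChange [Module.Flat A A'] {n : ℕ} (x : Fin n → A) :
    Nonempty ((A' ⊗[A] H1 x) ≃ₗ[A'] H1 (algebraMap A A' ∘ x)) := by
  classical
  let x' : Fin n → A' := algebraMap A A' ∘ x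
  let lc := Fintype.linearCombination A x
  let lc' := Fintype.linearCombination A' x'
  let e : A' ⊗[A] (Fin n → A) ≃ₗ[A'] (Fin n → A') := TensorProduct.piScalarRight A A' A' (Fin n)
  have he : ∀ (a : A') (v : Fin n → A), e (a ⊗ₜ v) = fun i => algebraMap A A' (v i) * a := fun a v => by
    funext i
    simp [e, Algebra.smul_def]
  have hlc : ∀ z, lc' (e z) = TensorProduct.rid A A' (lc.lTensor A' z) := fun z => by
    induction z using TensorProduct.induction_on with
    | zero => simp
    | tmul a v =>
      rw [he]
      simp [lc, lc', x', Fintype.linearCombination_apply, Algebra.smul_def, Finset.sum_mul, mul_right_comm]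
    | add z w hz hw => simp only [map_add, hz, hw]
  let K := LinearMap.ker lc
  let K' := LinearMap.ker lc'
  let T : Submodule A K := (triv x).comap K.subtype
  let T' : Submodule A' K' := (triv x').comap K'.subtype
  have hexact : Function.Exact (K.subtype.lTensor A') (lc.lTensor A') :=
    Module.Flat.lTensor_exact A' lc.exact_subtype_ker_map
  let Ψ : A' ⊗[A] K →ₗ[A'] K' := LinearMap.codRestrict K' (e.toLinearMap ∘ₗ K.subtype.baseChange A')
    fun z => by
      rw [LinearMap.mem_ker, LinearMap.comp_apply, LinearEquiv.coe_coe, hlc]
      show TensorProduct.rid A A' (lc.lTensor A' (K.subtype.lTensor A' z)) = 0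
      rw [hexact.apply_apply_eq_zero, map_zero]
  have hΨi : Function.Injective Ψ := fun z w h =>
    Module.Flat.lTensor_preserves_injective_linearMap (M := A') K.subtype K.injective_subtype
      (e.injective (congrArg Subtype.val h))
  have hΨs : Function.Surjective Ψ := by
    rintro ⟨v, hv⟩
    obtain ⟨z, hz⟩ := (hexact (e.symm v)).1 ((TensorProduct.rid A A').injective (by
      rw [← hlc, e.apply_symm_apply, map_zero]; exact hv))
    exact ⟨z, Subtype.ext ((congrArg e hz).trans (e.apply_symm_apply v))⟩
  have hT : (LinearMap.range (T.subtype.baseChange A')).map Ψ = T' := by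
    apply le_antisymm
    · rintro _ ⟨_, ⟨z, rfl⟩, rfl⟩
      induction z using TensorProduct.induction_on with
      | zero => simp
      | tmul a t =>
        have h1 : ∀ w ∈ triv x, (fun i => algebraMap A A' (w i)) ∈ triv x' := fun w hw => by
          induction hw using Submodule.span_induction with
          | mem w hw =>
            obtain ⟨i, j, rfl⟩ := hw
            convert triv_mem x' i j using 1
            funext k
            simp [x', Pi.single_apply, apply_ite (algebraMap A A')]
          | zero => convert (triv x').zero_mem using 1; funext k; simp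
          | add v w _ _ hv hw => convert add_mem hv hw using 1; funext k; simp
          | smul r v _ hv =>
            convert Submodule.smul_mem _ (algebraMap A A' r) hv using 1
            funext k
            simp
        show e (a ⊗ₜ (t.1.1 : Fin n → A)) ∈ triv x'
        rw [he]
        convert Submodule.smul_mem _ a (h1 _ t.2) using 1
        funext k
        simp [mul_comm]
      | add z w hz hw => rw [map_add, map_add]; exact add_mem hz hw
    · intro v hv
      have h2 : triv x' ≤ ((LinearMap.range (T.subtype.baseChange A')).map Ψ).map K'.subtype := by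
        refine Submodule.span_le.2 ?_
        rintro _ ⟨i, j, rfl⟩
        have hk : (Pi.single i (x j) - Pi.single j (x i) : Fin n → A) ∈ K := by
          rw [LinearMap.mem_ker]
          simp [lc, Fintype.linearCombination_apply, sub_mul, Finset.sum_sub_distrib, Pi.single_apply]
          ring
        refine ⟨_, ⟨_, ⟨1 ⊗ₜ (⟨⟨_, hk⟩, triv_mem x i j⟩ : T), rfl⟩, rfl⟩, ?_⟩
        show e (1 ⊗ₜ (Pi.single i (x j) - Pi.single j (x i) : Fin n → A)) = _
        rw [he]
        funext k
        simp [x', Pi.single_apply, apply_ite (algebraMap A A')]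
      obtain ⟨w, hw, hwv⟩ := h2 hv
      exact (Subtype.ext hwv : w = v) ▸ hw
  let g : A' ⊗[A] K →ₗ[A'] (K' ⧸ T') := T'.mkQ ∘ₗ Ψ
  let m : A' ⊗[A] K →ₗ[A'] A' ⊗[A] (K ⧸ T) := T.mkQ.baseChange A'
  have hker : LinearMap.ker m = LinearMap.ker g := by
    have hh : Function.Exact (LinearMap.lTensor A' T.subtype) (LinearMap.lTensor A' T.mkQ) := by
      exact exact_lTensor_subtype_mkQ T
    have h1 : LinearMap.ker m = LinearMap.range (T.subtype.baseChange A') :=
      SetLike.ext fun z => hh z
    rw [h1, LinearMap.ker_comp, Submodule.ker_mkQ, ← hT, Submodule.comap_map_eq_of_injective hΨi]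
  exact ⟨((m.quotKerEquivOfSurjective (LinearMap.lTensor_surjective A' T.mkQ_surjective)).symm.trans
    (Submodule.quotEquivOfEq _ _ hker)).trans
    (g.quotKerEquivOfSurjective (T'.mkQ_surjective.comp hΨs))⟩

variable [IsLocalRing A] [IsNoetherianRing A] [IsLocalRing A'] [Module.Flat A A']

/-- The length of the relations is unchanged. -/
theorem length_H1_algebraMap (hmax : (maximalIdeal A).map (algebraMap A A') = maximalIdeal A')
    {n : ℕ} (x : Fin n → A) (hx : Ideal.span (Set.range x) = maximalIdeal A) :
    Module.length A' (H1 (algebraMap A A' ∘ x)) = Module.length A (H1 x) := by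
  classical
  have hkill : ∀ (r : A), r ∈ maximalIdeal A → ∀ h : H1 x, r • h = 0 := by
    intro r hr h
    obtain ⟨⟨a, ha⟩, rfl⟩ := Submodule.mkQ_surjective _ h
    rw [← map_smul, Submodule.mkQ_apply, Submodule.Quotient.mk_eq_zero]
    show r • a ∈ triv x
    obtain ⟨c, rfl⟩ := Ideal.mem_span_range_iff_exists_fun.1 (hx ▸ hr)
    rw [Finset.sum_smul]
    refine Submodule.sum_mem _ fun k _ => ?_
    rw [← smul_smul]
    refine Submodule.smul_mem _ _ ?_
    have h0 : ∑ i, a i * x i = 0 := by
      have := LinearMap.mem_ker.1 ha
      simpa [Fintype.linearCombination_apply] using this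
    have he : x k • a = ∑ i, a i • (Pi.single i (x k) - Pi.single k (x i) : Fin n → A) := by
      funext j
      simp only [Pi.smul_apply, smul_eq_mul, Finset.sum_apply, Pi.sub_apply, Pi.single_apply, mul_sub,
        Finset.sum_sub_distrib, mul_ite, mul_zero, Finset.sum_ite_eq, Finset.mem_univ, if_true]
      by_cases hjk : j = k
      · subst hjk
        have h0' : ∑ i, x i * a i = 0 := by simpa [mul_comm] using h0
        simp [h0', mul_comm]
      · simp [hjk, mul_comm]
    rw [he]
    exact Submodule.sum_mem _ fun i _ => Submodule.smul_mem _ _ (triv_mem x i k)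
  have hfin : IsFiniteLength A (H1 x) := by
    letI : Module (A ⧸ maximalIdeal A) (H1 x) := Module.IsTorsionBySet.module fun h r => hkill r.1 r.2 h
    haveI : IsScalarTower A (A ⧸ maximalIdeal A) (H1 x) :=
      ⟨fun r s h => by
        obtain ⟨s, rfl⟩ := Ideal.Quotient.mk_surjective s
        exact mul_smul r s h⟩
    letI := Ideal.Quotient.field (maximalIdeal A)
    haveI : Module.Finite (A ⧸ maximalIdeal A) (H1 x) := Module.Finite.of_restrictScalars_finite A _ _
    rw [← Module.length_ne_top_iff, Module.length_eq_of_surjective (R := A ⧸ maximalIdeal A) (S := A)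
      Ideal.Quotient.mk_surjective, Module.length_eq_finrank]
    exact ENat.natCast_ne_top _
  obtain ⟨e⟩ := nonempty_H1_baseChange (A' := A') x
  rw [← e.length_eq, length_baseChange_of_flat hmax hfin]

end Groth.GeomDepth
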